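import Cfsg.Agent.H94.Sp.Base_m3
import Cfsg.Agent.UGT.EndJ1.Data
import Cfsg.Agent.KFacts.J2.Basic
import Cfsg.Agent.OddHalf.D8.RowJ3
import Cfsg.Agent.KFacts.HS.Sheet2_m3
import Cfsg.Agent.R10.Close
import Cfsg.Agent.TypeM.FactsMcL
import Cfsg.Agent.KFacts.He.TwoA_m3
import Cfsg.Agent.KFacts.SuzTwoB
import Cfsg.Agent.KFacts.ON.Words_m3
import Cfsg.Agent.KFacts.Ru.Core
import Cfsg.Agent.RuD.IdxPermG_m3
import Cfsg.Agent.Prune
set_option linter.all false
prune_inst 0x7f00000000000000000000000000000000000000000000000000000000000000000000000000000000000000000000000000000000000000000000000000000000000000000000000000000000000000003fffffffffffffffffffffffffffbeffbdffffffff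
open scoped Cfsg.Agent.FastGrp

/-!
# Primes connected to 2 in J1, J2, J3, HS, McL, Suz, Ly, He, Ru, ON (helper94)
-/

set_option autoImplicit false
set_option linter.unusedVariables false

namespace Cfsg.Agent.H94.PG.Sp

open Subgroup Cfsg

/-- the form with a square and the order of the centralizer -/
theorem nr_of_sq {G : Type*} [Group G] [Finite G] {t : G} (ht : t * t = 1) {n : ℕ}
    (hc : Nat.card (centralizer ({t} : Set G)) = n) (hN : Nat.card G ≠ n) {r : ℕ} (hr : r.Prime) (h : r ∣ n) :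
    Nr G r := by
  refine nr_of_cent (orderOf_two ht ?_) hr (by rw [hc]; exact h)
  rintro rfl
  apply hN
  have : centralizer ({1} : Set G) = ⊤ := by
    rw [eq_top_iff]
    intro x _
    rw [mem_centralizer_singleton_iff]
    simp
  rw [← hc, this, Subgroup.card_top]

/-! ### J1 -/

theorem cent_j1 {K : Type*} [Group K] (h : Spor.IsoJ1 K) {r : ℕ} (hr : r.Prime) (hd : r ∣ 120) : Nr K r := by
  obtain ⟨e⟩ := h
  rw [nr_congr e]
  obtain ⟨D⟩ := UGT.EndJ1.Data.exists_dat
  have hf : Finite Spor.J1 := D.fin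
  exact nr_of_sq D.tt D.card_C (by rw [D.card]; norm_num) hr hd

/-! ### J2 -/

theorem cent_j2 {K : Type*} [Group K] (h : Spor.IsoJ2 K) {r : ℕ} (hr : r.Prime) (hd : r ∣ 1920) : Nr K r := by
  obtain ⟨e⟩ := h
  rw [nr_congr e]
  have hfin : Finite Cfsg.Spor.J2 :=
    Nat.finite_of_card_ne_zero (by rw [Cfsg.Agent.S1619.result.2.2.2]; norm_num)
  obtain ⟨t, u, Q, v, ρ, D⟩ := KFacts.J2.Basic.exists_dat
  exact nr_of_sq D.tt D.cardC (by rw [Cfsg.Agent.S1619.result.2.2.2]; norm_num) hr hd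

/-! ### J3 -/

theorem cent_j3 {K : Type*} [Group K] [Finite K] (h : Spor.IsoJ3 K) {r : ℕ} (hr : r.Prime) (hd : r ∣ 1920) : Nr K r := by
  obtain ⟨z, Q, v, ρ, M, hc, -, -⟩ := OddHalf.D8.RowJ3.sheet' K h
  have hzz : z * z = 1 := congrArg Subtype.val M.z_sq
  have hz1 : z ≠ 1 := fun h => M.z_ne (Subtype.ext h)
  exact nr_of_cent (orderOf_two hzz hz1) hr (by rw [hc]; exact hd)

/-! ### HS -/

theorem cent_hs {K : Type*} [Group K] [Finite K] (h : Spor.IsoHS K) {r : ℕ} (hr : r.Prime) (hd : r ∣ 7680) :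
    Nr K r := by
  obtain ⟨D⟩ := KFacts.HS.exists_mod h
  exact nr_of_cent (orderOf_two D.zz D.z1) hr (by rw [D.card_centralizer]; exact hd)

/-! ### McL -/

theorem cent_mt {G : Type*} [Group G] [Finite G] {n : ℕ} (L : TypeM.Two.MT n G) {r : ℕ} (hr : r.Prime)
    (hd : r ∣ Nat.card (alternatingGroup (Fin n))) : Nr G r := by
  have h1 : Nat.card (alternatingGroup (Fin n)) ∣ Nat.card (centralizer ({L.t} : Set G)) := by
    rw [← L.K.range_eq]
    have := Subgroup.card_map_dvd (⊤ : Subgroup (centralizer ({L.t} : Set G))) L.K.π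
    rwa [← MonoidHom.range_eq_map, Subgroup.card_top] at this
  exact nr_of_cent (orderOf_two L.t_mul_t L.t_ne) hr (hd.trans h1)

theorem cent_mcl {K : Type*} [Group K] (h : Spor.IsoMcL K) {r : ℕ} (hr : r.Prime) (hd : r ∣ 20160) : Nr K r := by
  obtain ⟨e⟩ := h
  rw [nr_congr e]
  obtain ⟨hf, -, -, ⟨L⟩⟩ := TypeM.FactsMcL.exists_mt_mcl
  refine cent_mt L hr ?_
  rw [nat_card_alternatingGroup, Nat.card_fin]
  exact hd

/-! ### Ly -/

theorem cent_ly {K : Type*} [Group K] (h : Spor.IsoLy K) {r : ℕ} (hr : r.Prime) (hd : r ∣ 39916800) : Nr K r := by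
  obtain ⟨e⟩ := h
  rw [nr_congr e]
  have hf : Finite Spor.Ly := Nat.finite_of_card_ne_zero (by rw [Cfsg.Agent.Ly.Setup.card_ly]; norm_num)
  exact nr_of_cent R10.Close.order_τ hr (by rw [R10.Close.cover_τ.1]; exact hd)

/-! ### He -/

theorem cent_he {K : Type*} [Group K] [Finite K] (h : Spor.IsoHe K) {r : ℕ} (hr : r.Prime) (hd : r ∣ 20160) :
    Nr K r := by
  obtain ⟨e⟩ := h
  rw [nr_congr e]
  have hf : Finite Spor.He := Finite.of_equiv _ e.toEquiv
  obtain ⟨h1, h2, h3, h4, h5, h6⟩ := KFacts.He.TwoA.two_a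
  have hL : Nat.card (↥KFacts.He.TwoACent.L ⧸ center ↥KFacts.He.TwoACent.L) = 20160 := by
    rw [Nat.card_congr KFacts.He.TwoAPlane.quotEquiv.toEquiv, ONType.PslCard.card_PSL3]
  have h7 : 20160 ∣ Nat.card ↥KFacts.He.TwoACent.L := by
    rw [Subgroup.card_eq_card_quotient_mul_card_subgroup (center ↥KFacts.He.TwoACent.L), hL]
    exact dvd_mul_right _ _
  exact nr_of_le (t := KFacts.He.Lv.gn .a) (orderOf_two (KFacts.He.TwoACent.gn_mul_self _) KFacts.He.TwoACent.a_ne_one) hr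
    (fun x hx => mem_centralizer_singleton_iff.1 (h1 hx)) (hd.trans h7)

/-! ### Suz -/

theorem cent_suz {K : Type*} [Group K] [Finite K] (h : Spor.IsoSuz K) {r : ℕ} (hr : r.Prime) (hd : r ∣ 161280) :
    Nr K r := by
  obtain ⟨e⟩ := h
  rw [nr_congr e]
  have hf : Finite Spor.Suz := Finite.of_equiv _ e.toEquiv
  exact nr_of_cent (orderOf_two KFacts.SuzLFour.e0_sq KFacts.SuzLFour.e0_ne) hr
    (by rw [show Nat.card (centralizer ({KFacts.SuzLFour.e0} : Set Spor.Suz)) = 161280 from KFacts.SuzTwoB.card_CE]; exact hd)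

/-! ### ON -/

theorem cent_on {K : Type*} [Group K] [Finite K] (h : Spor.IsoON K) {r : ℕ} (hr : r.Prime) (hd : r ∣ 161280) :
    Nr K r := by
  obtain ⟨e⟩ := h
  rw [nr_congr e]
  have hf : Finite Spor.ON := Finite.of_equiv _ e.toEquiv
  exact nr_of_sq (ONType.TupleClass.ff KFacts.ON.Cent.hON.1) KFacts.ON.Cent.card_cent
    (by rw [KFacts.ON.Cent.hON.2]; norm_num) hr hd

/-! ### Ru -/

theorem cent_ru {K : Type*} [Group K] [Finite K] (h : Spor.IsoRu K) {r : ℕ} (hr : r.Prime) (hd : r ∣ 245760 * 29120) :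
    Nr K r := by
  obtain ⟨C, -⟩ := KFacts.Ru.exists_core h
  rcases hr.dvd_mul.1 hd with h1 | h1
  · refine nr_of_cent (t := C.z 1) (orderOf_two ?_ ?_) hr (by rw [Ru127.Sg.card_cent C]; exact h1)
    · exact C.z_sq _
    · exact fun h => one_ne_zero (C.z_eq_one h)
  · have h2 : Nat.card C.L = 29120 := RuB.Count.card_J C.R
    refine nr_of_le (t := C.v (1, 0)) (orderOf_two (C.v_sq _) ?_) hr (H := C.L)
      (fun x hx => (C.v_comm _ x hx).symm) (by rw [h2]; exact h1)
    intro h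
    have := C.v_eq_one h
    exact absurd this (by decide)

end Cfsg.Agent.H94.PG.Sp
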