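import Cfsg.Agent.H94.Sp.Mathieu
import Cfsg.Agent.H94.Sp.Janko
import Cfsg.Agent.H94.Sp.Conway_mg
import Cfsg.Agent.H94.Sp.Monst
import Cfsg.Agent.H603.SporElim
import Cfsg.Agent.Prune
set_option linter.all false
prune_inst 0x7f00000000000000000000000000000000000000000000000000000000000000000000000000000000000000000000000000000000000000000000000000000000000000000000000000000000000000003fffffffffffffffffffffffffffbeffbdffffffff
open scoped Cfsg.Agent.FastGrp

/-!
# The prime graphs of the sporadic groups and of the Tits group (helper94)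

For each group `X` of order `N`, with the list `R` of the primes isolated in the prime graph (for `M23` also 5):

* `nr_x` : a prime divisor of `N` not in `R` is 2 or adjacent to 2;
* `ac_x` : `AC`; `ac_sporadic`, `ac_tits`.
-/

set_option autoImplicit false
set_option linter.unusedVariables false

namespace Cfsg.Agent.H94.PG.Sp

open Subgroup Cfsg Cfsg.Agent.SporadicA.GolayPerm Cfsg.Agent.KFacts.MM.El Cfsg.Agent.KFacts.MM.Cent

/-- possible order of a centralizer -/
def Adm (N s : ℕ) (L : List ℕ) : Prop :=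
  ∃ e ∈ List.range s, e ∣ s - 1 ∧ s * L.prod * e ∣ N ∧ N / (s * L.prod * e) % s = 1 % s

instance (N s : ℕ) (L : List ℕ) : Decidable (Adm N s L) := by unfold Adm; infer_instance

/-- the refined arithmetic condition -/
def Ok' (N : ℕ) (R : List ℕ) : Prop :=
  ∀ s ∈ R, ∀ L ∈ (R.erase s).sublists, ¬ (L.prod.Coprime (L.map (· - 1)).prod) → Adm N s L →
    ∃ q ∈ L, ∀ L' ∈ (R.erase q).sublists, s ∈ L' → ¬ Adm N q L'

instance (N : ℕ) (R : List ℕ) : Decidable (Ok' N R) := by unfold Ok'; infer_instance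

theorem totient_prod (L : List ℕ) (hL : ∀ p ∈ L, p.Prime) (hnd : L.Nodup) :
    L.prod.totient = (L.map (· - 1)).prod := by
  induction L with
  | nil => simp
  | cons p L ih =>
    rw [List.prod_cons, List.map_cons, List.prod_cons]
    have hp := hL p List.mem_cons_self
    have hL' : ∀ q ∈ L, q.Prime := fun q hq => hL q (List.mem_cons_of_mem _ hq)
    have hnd' := List.nodup_cons.1 hnd
    rw [Nat.totient_mul, Nat.totient_prime hp, ih hL' hnd'.2]
    rw [Nat.Prime.coprime_iff_not_dvd hp]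
    intro h
    obtain ⟨a, ha, hpa⟩ := (Prime.dvd_prod_iff hp.prime).1 h
    rw [(Nat.prime_dvd_prime_iff_eq hp (hL' a ha)).1 hpa] at hnd'
    exact hnd'.1 ha

/-- divisors of a product of distinct primes, with the divisor as the product of the primes dividing it -/
theorem adm_of {G : Type*} [Group G] [Finite G] {R : List ℕ} (hR : ∀ r ∈ R, r.Prime)
    (hconn : ∀ r, r.Prime → r ∣ Nat.card G → r ∉ R → Conn G r 2) (hsq : ∀ r ∈ R, ¬ r * r ∣ Nat.card G)
    {x : G} (hx : (orderOf x).Prime) (hn : ¬ Conn G (orderOf x) 2) :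
    orderOf x ∈ R ∧ ∃ L ∈ (R.erase (orderOf x)).sublists, Adm (Nat.card G) (orderOf x) L ∧
      Nat.card (centralizer ({x} : Set G)) = orderOf x * L.prod := by
  obtain ⟨hsR, m, hm, hc⟩ := card_cent_dvd R hR hconn hsq hx hn
  have hRe : ∀ r ∈ R.erase (orderOf x), r.Prime := fun r hr => hR r (List.mem_of_mem_erase hr)
  obtain ⟨L, hL, rfl⟩ := exists_sublist _ hRe m hm
  obtain ⟨e, he, h1, h2⟩ := sylow_arith hx rfl (hsq _ hsR)
  rw [hc] at h1 h2
  refine ⟨hsR, L, hL, ⟨e, ?_, he, h1, h2⟩, hc⟩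
  rw [List.mem_range]
  have := Nat.le_of_dvd (by have := hx.two_le; omega) he
  have := hx.two_le
  omega

/-- **`AC` from the primes connected to 2, refined** -/
theorem ac_of' {G : Type*} [Group G] [Finite G] (N : ℕ) (R : List ℕ) (hN : Nat.card G = N) (hR : ∀ r ∈ R, r.Prime)
    (hnd : R.Nodup)
    (hconn : ∀ r, r.Prime → r ∣ N → r ∉ R → Conn G r 2) (hsq : ∀ r ∈ R, ¬ r * r ∣ N) (hok : Ok' N R) : AC G := by
  subst hN
  intro x hx hn a b ha hb
  obtain ⟨hsR, L, hL, hA, hc⟩ := adm_of hR hconn hsq hx hn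
  have hRe : ∀ r ∈ R.erase (orderOf x), r.Prime := fun r hr => hR r (List.mem_of_mem_erase hr)
  have hsub : List.Sublist L (R.erase (orderOf x)) := List.mem_sublists.1 hL
  have hLn : L.Nodup := (hnd.erase _).sublist hsub
  have hLp : ∀ p ∈ L, p.Prime := fun p hp => hRe p (hsub.subset hp)
  have hcop : L.prod.Coprime L.prod.totient := by
    rw [totient_prod L hLp hLn]
    by_contra hno
    obtain ⟨q, hqL, hq⟩ := hok _ hsR L hL hno hA
    have hqp : q.Prime := hRe q (hsub.subset hqL)
    have : Fact q.Prime := ⟨hqp⟩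
    obtain ⟨y, hy⟩ := exists_prime_orderOf_dvd_card' (G := centralizer ({x} : Set G)) q (by
      rw [hc]; exact (List.dvd_prod hqL).trans (dvd_mul_left _ _))
    have hyx : Commute (y : G) x := mem_centralizer_singleton_iff.1 y.2
    have hyo : orderOf (y : G) = q := by rw [Subgroup.orderOf_coe, hy]
    have hny : ¬ Conn G (orderOf (y : G)) 2 := fun h => hn ((conn_of_dvd hx (by rw [hyo]; exact hqp) hyx.symm dvd_rfl
      dvd_rfl).trans h)
    obtain ⟨hqR, L', hL', hA', hc'⟩ := adm_of hR hconn hsq (x := (y : G)) (by rw [hyo]; exact hqp) hny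
    rw [hyo] at hqR hL' hA' hc'
    refine hq L' hL' ?_ hA'
    -- `s` divides the order of the centralizer of `y`
    have h1 : orderOf x ∣ q * L'.prod := by
      rw [← hc']
      have h2 : x ∈ centralizer ({(y : G)} : Set G) := mem_centralizer_singleton_iff.2 hyx.symm
      have := orderOf_dvd_natCard (⟨x, h2⟩ : centralizer ({(y : G)} : Set G))
      rwa [Subgroup.orderOf_mk] at this
    have hne : orderOf x ≠ q := by
      intro h
      rw [h] at hsub
      exact (List.Nodup.not_mem_erase hnd) (hsub.subset hqL)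
    have h3 : orderOf x ∣ L'.prod := by
      rcases hx.dvd_mul.1 h1 with h4 | h4
      · exact absurd ((Nat.prime_dvd_prime_iff_eq hx hqp).1 h4) hne
      · exact h4
    obtain ⟨p, hp, hxp⟩ := (Prime.dvd_prod_iff hx.prime).1 h3
    have hpp : p.Prime := hR p (List.mem_of_mem_erase ((List.mem_sublists.1 hL').subset hp))
    rwa [(Nat.prime_dvd_prime_iff_eq hx hpp).1 hxp]
  have hsqf : Squarefree L.prod := by
    rw [Nat.squarefree_iff_prime_squarefree]
    intro p hp hpp
    clear * - hLn hLp hp hpp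
    induction L with
    | nil =>
      rw [List.prod_nil] at hpp
      exact hp.one_lt.ne' (Nat.dvd_one.1 ((dvd_mul_right p p).trans hpp))
    | cons q L ih =>
      rw [List.prod_cons] at hpp
      have hq := hLp q List.mem_cons_self
      have hLn' := List.nodup_cons.1 hLn
      by_cases hpq : p = q
      · subst hpq
        have h1 : p ∣ L.prod := Nat.dvd_of_mul_dvd_mul_left hp.pos hpp
        have h2 : p ∈ L := by
          have h3 := (Prime.dvd_prod_iff hp.prime).1 h1
          obtain ⟨a, ha, hpa⟩ := h3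
          rwa [(Nat.prime_dvd_prime_iff_eq hp (hLp a (List.mem_cons_of_mem _ ha))).1 hpa]
        exact hLn'.1 h2
      · apply ih hLn'.2 (fun r hr => hLp r (List.mem_cons_of_mem _ hr))
        have h1 : (p * p).Coprime q := by
          have : p.Coprime q := (Nat.coprime_primes hp hq).2 hpq
          exact Nat.Coprime.mul_left this this
        exact h1.dvd_of_dvd_mul_left hpp
  let z : centralizer ({x} : Set G) := ⟨x, by rw [mem_centralizer_singleton_iff]⟩
  have hz : ∀ g : centralizer ({x} : Set G), g * z = z * g := fun g =>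
    Subtype.ext (mem_centralizer_singleton_iff.1 g.2)
  have h3 := comm_of_central' hz hsqf hcop (by rw [hc]; congr 1; exact (Subgroup.orderOf_mk _ _).symm)
    ⟨a, mem_centralizer_singleton_iff.2 ha⟩ ⟨b, mem_centralizer_singleton_iff.2 hb⟩
  exact congrArg Subtype.val h3

/-- the primes of a list divide `n` or are in `R` -/
def chkL (L R : List ℕ) (n : ℕ) : Bool := L.all fun p => R.contains p || Nat.beq (n % p) 0

theorem dvd_of {N n : ℕ} (L R : List ℕ) (hL : ∀ p ∈ L, p.Prime) (k : ℕ) (hN : Nat.beq (L.prod ^ k % N) 0 = true)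
    (hc : chkL L R n = true) {r : ℕ} (hr : r.Prime) (hd : r ∣ N) (hR : r ∉ R) : r ∣ n := by
  have h := mem_of_dvd L hL k (Nat.dvd_of_mod_eq_zero (Nat.eq_of_beq_eq_true hN)) hr hd
  unfold chkL at hc
  rw [List.all_eq_true] at hc
  have h1 := hc r h
  rw [Bool.or_eq_true] at h1
  rcases h1 with h1 | h1
  · exact absurd (by simpa using h1) hR
  · exact Nat.dvd_of_mod_eq_zero (Nat.eq_of_beq_eq_true h1)

/-! ### 5 is adjacent to 3 in `M23` -/

/-- commuting packed permutations of prime orders -/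
def chk2 (p r P Q : ℕ) : Bool :=
  okl [P, Q] && (weq (List.replicate p P) [] && (!weq [P] [] && (weq (List.replicate r Q) [] && (!weq [Q] [] &&
    weq [P, Q] [Q, P]))))

theorem adj_of_chk2 {K : Subgroup (Equiv.Perm GolayPt)} {p r P Q : ℕ} (hp : p.Prime) (hr : r.Prime)
    (hne : r ≠ p) (h : chk2 p r P Q = true) (hP : pm P ∈ K) (hQ : pm Q ∈ K) : Adj K r p := by
  unfold chk2 at h
  simp only [Bool.and_eq_true, Bool.not_eq_true'] at h
  obtain ⟨h0, h1, h2, h3, h4, h5⟩ := h
  have hP0 := (okl_cons h0).1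
  have hQ0 := (okl_cons (okl_cons h0).2).1
  have okn : okl [] = true := rfl
  have ok1 : okl [P] = true := by unfold okl; simp [hP0]
  have ok2 : okl [Q] = true := by unfold okl; simp [hQ0]
  have ok4 : okl [Q, P] = true := by unfold okl; simp [hP0, hQ0]
  have e1 : pm P ^ p = 1 := by
    have := pr_of_weq (okl_replicate hP0 p) okn h1
    rwa [pr_replicate, pr_nil] at this
  have e2 : pm P ≠ 1 := by
    have := pr_ne ok1 okn h2
    rwa [pr_one, pr_nil] at this
  have e3 : pm Q ^ r = 1 := by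
    have := pr_of_weq (okl_replicate hQ0 r) okn h3
    rwa [pr_replicate, pr_nil] at this
  have e4 : pm Q ≠ 1 := by
    have := pr_ne ok2 okn h4
    rwa [pr_one, pr_nil] at this
  have e5 : pm P * pm Q = pm Q * pm P := by
    have := pr_of_weq h0 ok4 h5
    rwa [pr_cons, pr_one, pr_cons, pr_one] at this
  have : Fact r.Prime := ⟨hr⟩
  have : Fact p.Prime := ⟨hp⟩
  have o1 : orderOf (⟨pm P, hP⟩ : K) = p := orderOf_eq_prime (Subtype.ext e1) (fun h => e2 (congrArg Subtype.val h))
  have o2 : orderOf (⟨pm Q, hQ⟩ : K) = r := orderOf_eq_prime (Subtype.ext e3) (fun h => e4 (congrArg Subtype.val h))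
  exact ⟨hr, hp, hne, ⟨pm Q, hQ⟩, ⟨pm P, hP⟩, o2, o1, Subtype.ext e5.symm⟩

def a15 : ℕ := 962379565632559705518550563820798193
def b15 : ℕ := 965329125674967200280303722779710930

theorem adj_m23 : Adj Spor.M23 5 3 :=
  adj_of_chk2 Nat.prime_three Nat.prime_five (by norm_num) (P := a15) (Q := b15) (by decide +kernel)
    (mem_of_ok23 (by decide +kernel)) (mem_of_ok23 (by decide +kernel))

theorem conn_five_m23 {K : Type*} [Group K] (h : Spor.IsoM23 K) : Conn K 5 2 := by
  obtain ⟨e⟩ := h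
  rw [conn_congr e]
  exact adj_m23.conn.trans m23_three.conn

theorem card_m22 : Nat.card Spor.M22 = 443520 := Cfsg.Agent.SporadicA.MathieuRecog.card_M22

/-! ### m11 -/

theorem nr_m11' {K : Type*} [Group K] (h : Spor.IsoM11 K) {r : ℕ} (hr : r.Prime) (hd : r ∣ 7920) (hR : r ∉ [5, 11]) : Nr K r := by
  obtain ⟨e⟩ := h
  rw [nr_congr e]
  exact nr_m11 hr hd hR

theorem ac_m11 {K : Type*} [Group K] [Finite K] (h : Spor.IsoM11 K) : AC K :=
  ac_of' 7920 [5, 11] (NotCT.Orders.m11 h) (by norm_num) (by decide)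
    (fun r hr hd hR => (nr_m11' h hr hd hR).conn) (by decide +kernel) (by decide +kernel)

/-! ### m12 -/

theorem nr_m12' {K : Type*} [Group K] (h : Spor.IsoM12 K) {r : ℕ} (hr : r.Prime) (hd : r ∣ 95040) (hR : r ∉ [11]) : Nr K r := by
  obtain ⟨e⟩ := h
  rw [nr_congr e]
  exact nr_m12 hr hd hR

theorem ac_m12 {K : Type*} [Group K] [Finite K] (h : Spor.IsoM12 K) : AC K :=
  ac_of' 95040 [11] (NotCT.Orders.m12 h) (by norm_num) (by decide)
    (fun r hr hd hR => (nr_m12' h hr hd hR).conn) (by decide +kernel) (by decide +kernel)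

/-! ### m22 -/

theorem nr_m22' {K : Type*} [Group K] (h : Spor.IsoM22 K) {r : ℕ} (hr : r.Prime) (hd : r ∣ 443520) (hR : r ∉ [5, 7, 11]) : Nr K r := by
  obtain ⟨e⟩ := h
  rw [nr_congr e]
  exact nr_m22 hr hd hR

theorem ac_m22 {K : Type*} [Group K] [Finite K] (h : Spor.IsoM22 K) : AC K :=
  ac_of' 443520 [5, 7, 11] (NotCT.Orders.m22 h) (by norm_num) (by decide)
    (fun r hr hd hR => (nr_m22' h hr hd hR).conn) (by decide +kernel) (by decide +kernel)

/-! ### m23 -/

theorem nr_m23' {K : Type*} [Group K] (h : Spor.IsoM23 K) {r : ℕ} (hr : r.Prime) (hd : r ∣ 10200960) (hR : r ∉ [5, 11, 23]) : Nr K r := by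
  obtain ⟨e⟩ := h
  rw [nr_congr e]
  exact nr_m23 hr hd hR

theorem ac_m23 {K : Type*} [Group K] [Finite K] (h : Spor.IsoM23 K) : AC K :=
  ac_of' 10200960 [11, 23] (NotCT.Orders.m23 h) (by norm_num) (by decide)
    (fun r hr hd hR => by
      by_cases h5 : r = 5
      · subst h5; exact conn_five_m23 h
      · exact (nr_m23' h hr hd (by simpa [h5] using hR)).conn) (by decide +kernel) (by decide +kernel)

/-! ### m24 -/

theorem nr_m24' {K : Type*} [Group K] (h : Spor.IsoM24 K) {r : ℕ} (hr : r.Prime) (hd : r ∣ 244823040) (hR : r ∉ [11, 23]) : Nr K r := by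
  obtain ⟨e⟩ := h
  rw [nr_congr e]
  exact nr_m24 hr hd hR

theorem ac_m24 {K : Type*} [Group K] [Finite K] (h : Spor.IsoM24 K) : AC K :=
  ac_of' 244823040 [11, 23] (NotCT.Orders.m24 h) (by norm_num) (by decide)
    (fun r hr hd hR => (nr_m24' h hr hd hR).conn) (by decide +kernel) (by decide +kernel)

/-! ### j1 -/

theorem nr_j1 {K : Type*} [Group K] [Finite K] (h : Spor.IsoJ1 K) {r : ℕ} (hr : r.Prime) (hd : r ∣ 175560) (hR : r ∉ [7, 11, 19]) :
    Nr K r :=
  cent_j1 h hr (dvd_of (n := 120) [2, 3, 5, 7, 11, 19] [7, 11, 19] (by norm_num) 3 (by decide +kernel) (by decide +kernel) hr hd hR)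

theorem ac_j1 {K : Type*} [Group K] [Finite K] (h : Spor.IsoJ1 K) : AC K :=
  ac_of' 175560 [7, 11, 19] (NotCT.Orders.j1 h) (by norm_num) (by decide)
    (fun r hr hd hR => (nr_j1 h hr hd hR).conn) (by decide +kernel) (by decide +kernel)

/-! ### j2 -/

theorem nr_j2 {K : Type*} [Group K] [Finite K] (h : Spor.IsoJ2 K) {r : ℕ} (hr : r.Prime) (hd : r ∣ 604800) (hR : r ∉ [7]) :
    Nr K r :=
  cent_j2 h hr (dvd_of (n := 1920) [2, 3, 5, 7] [7] (by norm_num) 7 (by decide +kernel) (by decide +kernel) hr hd hR)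

theorem ac_j2 {K : Type*} [Group K] [Finite K] (h : Spor.IsoJ2 K) : AC K :=
  ac_of' 604800 [7] (NotCT.Orders.j2 h) (by norm_num) (by decide)
    (fun r hr hd hR => (nr_j2 h hr hd hR).conn) (by decide +kernel) (by decide +kernel)

/-! ### j3 -/

theorem nr_j3 {K : Type*} [Group K] [Finite K] (h : Spor.IsoJ3 K) {r : ℕ} (hr : r.Prime) (hd : r ∣ 50232960) (hR : r ∉ [17, 19]) :
    Nr K r :=
  cent_j3 h hr (dvd_of (n := 1920) [2, 3, 5, 17, 19] [17, 19] (by norm_num) 7 (by decide +kernel) (by decide +kernel) hr hd hR)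

theorem ac_j3 {K : Type*} [Group K] [Finite K] (h : Spor.IsoJ3 K) : AC K :=
  ac_of' 50232960 [17, 19] (NotCT.Orders.j3 h) (by norm_num) (by decide)
    (fun r hr hd hR => (nr_j3 h hr hd hR).conn) (by decide +kernel) (by decide +kernel)

/-! ### j4 -/

theorem nr_j4 {K : Type*} [Group K] [Finite K] (h : Spor.IsoJ4 K) {r : ℕ} (hr : r.Prime) (hd : r ∣ 86775571046077562880) (hR : r ∉ [23, 29, 31, 37, 43]) :
    Nr K r :=
  cent_j4 h hr (by rw [card_m22]; exact dvd_of (n := 443520) [2, 3, 5, 7, 11, 23, 29, 31, 37, 43] [23, 29, 31, 37, 43] (by norm_num) 21 (by decide +kernel) (by decide +kernel) hr hd hR)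

theorem ac_j4 {K : Type*} [Group K] [Finite K] (h : Spor.IsoJ4 K) : AC K :=
  ac_of' 86775571046077562880 [23, 29, 31, 37, 43] (NotCT.Orders.j4 h) (by norm_num) (by decide)
    (fun r hr hd hR => (nr_j4 h hr hd hR).conn) (by decide +kernel) (by decide +kernel)

/-! ### hs -/

theorem nr_hs {K : Type*} [Group K] [Finite K] (h : Spor.IsoHS K) {r : ℕ} (hr : r.Prime) (hd : r ∣ 44352000) (hR : r ∉ [7, 11]) :
    Nr K r :=
  cent_hs h hr (dvd_of (n := 7680) [2, 3, 5, 7, 11] [7, 11] (by norm_num) 9 (by decide +kernel) (by decide +kernel) hr hd hR)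

theorem ac_hs {K : Type*} [Group K] [Finite K] (h : Spor.IsoHS K) : AC K :=
  ac_of' 44352000 [7, 11] (NotCT.Orders.hs h) (by norm_num) (by decide)
    (fun r hr hd hR => (nr_hs h hr hd hR).conn) (by decide +kernel) (by decide +kernel)

/-! ### mcl -/

theorem nr_mcl {K : Type*} [Group K] [Finite K] (h : Spor.IsoMcL K) {r : ℕ} (hr : r.Prime) (hd : r ∣ 898128000) (hR : r ∉ [11]) :
    Nr K r :=
  cent_mcl h hr (dvd_of (n := 20160) [2, 3, 5, 7, 11] [11] (by norm_num) 7 (by decide +kernel) (by decide +kernel) hr hd hR)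

theorem ac_mcl {K : Type*} [Group K] [Finite K] (h : Spor.IsoMcL K) : AC K :=
  ac_of' 898128000 [11] (NotCT.Orders.mcl h) (by norm_num) (by decide)
    (fun r hr hd hR => (nr_mcl h hr hd hR).conn) (by decide +kernel) (by decide +kernel)

/-! ### suz -/

theorem nr_suz {K : Type*} [Group K] [Finite K] (h : Spor.IsoSuz K) {r : ℕ} (hr : r.Prime) (hd : r ∣ 448345497600) (hR : r ∉ [11, 13]) :
    Nr K r :=
  cent_suz h hr (dvd_of (n := 161280) [2, 3, 5, 7, 11, 13] [11, 13] (by norm_num) 13 (by decide +kernel) (by decide +kernel) hr hd hR)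

theorem ac_suz {K : Type*} [Group K] [Finite K] (h : Spor.IsoSuz K) : AC K :=
  ac_of' 448345497600 [11, 13] (NotCT.Orders.suz h) (by norm_num) (by decide)
    (fun r hr hd hR => (nr_suz h hr hd hR).conn) (by decide +kernel) (by decide +kernel)

/-! ### ly -/

theorem nr_ly {K : Type*} [Group K] [Finite K] (h : Spor.IsoLy K) {r : ℕ} (hr : r.Prime) (hd : r ∣ 51765179004000000) (hR : r ∉ [31, 37, 67]) :
    Nr K r :=
  cent_ly h hr (dvd_of (n := 39916800) [2, 3, 5, 7, 11, 31, 37, 67] [31, 37, 67] (by norm_num) 8 (by decide +kernel) (by decide +kernel) hr hd hR)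

theorem ac_ly {K : Type*} [Group K] [Finite K] (h : Spor.IsoLy K) : AC K :=
  ac_of' 51765179004000000 [31, 37, 67] (NotCT.Orders.ly h) (by norm_num) (by decide)
    (fun r hr hd hR => (nr_ly h hr hd hR).conn) (by decide +kernel) (by decide +kernel)

/-! ### he -/

theorem nr_he {K : Type*} [Group K] [Finite K] (h : Spor.IsoHe K) {r : ℕ} (hr : r.Prime) (hd : r ∣ 4030387200) (hR : r ∉ [17]) :
    Nr K r :=
  cent_he h hr (dvd_of (n := 20160) [2, 3, 5, 7, 17] [17] (by norm_num) 10 (by decide +kernel) (by decide +kernel) hr hd hR)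

theorem ac_he {K : Type*} [Group K] [Finite K] (h : Spor.IsoHe K) : AC K :=
  ac_of' 4030387200 [17] (NotCT.Orders.he h) (by norm_num) (by decide)
    (fun r hr hd hR => (nr_he h hr hd hR).conn) (by decide +kernel) (by decide +kernel)

/-! ### ru -/

theorem nr_ru {K : Type*} [Group K] [Finite K] (h : Spor.IsoRu K) {r : ℕ} (hr : r.Prime) (hd : r ∣ 145926144000) (hR : r ∉ [29]) :
    Nr K r :=
  cent_ru h hr (dvd_of (n := 245760 * 29120) [2, 3, 5, 7, 13, 29] [29] (by norm_num) 14 (by decide +kernel) (by decide +kernel) hr hd hR)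

theorem ac_ru {K : Type*} [Group K] [Finite K] (h : Spor.IsoRu K) : AC K :=
  ac_of' 145926144000 [29] (NotCT.Orders.ru h) (by norm_num) (by decide)
    (fun r hr hd hR => (nr_ru h hr hd hR).conn) (by decide +kernel) (by decide +kernel)

/-! ### on -/

theorem nr_on {K : Type*} [Group K] [Finite K] (h : Spor.IsoON K) {r : ℕ} (hr : r.Prime) (hd : r ∣ 460815505920) (hR : r ∉ [11, 19, 31]) :
    Nr K r :=
  cent_on h hr (dvd_of (n := 161280) [2, 3, 5, 7, 11, 19, 31] [11, 19, 31] (by norm_num) 9 (by decide +kernel) (by decide +kernel) hr hd hR)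

theorem ac_on {K : Type*} [Group K] [Finite K] (h : Spor.IsoON K) : AC K :=
  ac_of' 460815505920 [11, 19, 31] (NotCT.Orders.on h) (by norm_num) (by decide)
    (fun r hr hd hR => (nr_on h hr hd hR).conn) (by decide +kernel) (by decide +kernel)

/-! ### co1 -/

theorem nr_co1 {K : Type*} [Group K] [Finite K] (h : Spor.IsoCo1 K) {r : ℕ} (hr : r.Prime) (hd : r ∣ 4157776806543360000) (hR : r ∉ [23]) :
    Nr K r :=
  cent_co1 h hr (dvd_of (n := 251596800 * 11) [2, 3, 5, 7, 11, 13, 23] [23] (by norm_num) 21 (by decide +kernel) (by decide +kernel) hr hd hR)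

theorem ac_co1 {K : Type*} [Group K] [Finite K] (h : Spor.IsoCo1 K) : AC K :=
  ac_of' 4157776806543360000 [23] (NotCT.Orders.co1 h) (by norm_num) (by decide)
    (fun r hr hd hR => (nr_co1 h hr hd hR).conn) (by decide +kernel) (by decide +kernel)

/-! ### co2 -/

theorem nr_co2 {K : Type*} [Group K] [Finite K] (h : Spor.IsoCo2 K) {r : ℕ} (hr : r.Prime) (hd : r ∣ 42305421312000) (hR : r ∉ [11, 23]) :
    Nr K r :=
  cent_co2 h hr (dvd_of (n := 1451520) [2, 3, 5, 7, 11, 23] [11, 23] (by norm_num) 18 (by decide +kernel) (by decide +kernel) hr hd hR)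

theorem ac_co2 {K : Type*} [Group K] [Finite K] (h : Spor.IsoCo2 K) : AC K :=
  ac_of' 42305421312000 [11, 23] (NotCT.Orders.co2 h) (by norm_num) (by decide)
    (fun r hr hd hR => (nr_co2 h hr hd hR).conn) (by decide +kernel) (by decide +kernel)

/-! ### co3 -/

theorem nr_co3 {K : Type*} [Group K] [Finite K] (h : Spor.IsoCo3 K) {r : ℕ} (hr : r.Prime) (hd : r ∣ 495766656000) (hR : r ∉ [23]) :
    Nr K r :=
  cent_co3 h hr (dvd_of (n := 2903040 * 95040) [2, 3, 5, 7, 11, 23] [23] (by norm_num) 10 (by decide +kernel) (by decide +kernel) hr hd hR)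

theorem ac_co3 {K : Type*} [Group K] [Finite K] (h : Spor.IsoCo3 K) : AC K :=
  ac_of' 495766656000 [23] (NotCT.Orders.co3 h) (by norm_num) (by decide)
    (fun r hr hd hR => (nr_co3 h hr hd hR).conn) (by decide +kernel) (by decide +kernel)

/-! ### fi22 -/

theorem nr_fi22 {K : Type*} [Group K] [Finite K] (h : Spor.IsoFi22 K) {r : ℕ} (hr : r.Prime) (hd : r ∣ 64561751654400) (hR : r ∉ [13]) :
    Nr K r :=
  cent_fi22 h hr (dvd_of (n := 18393661440) [2, 3, 5, 7, 11, 13] [13] (by norm_num) 17 (by decide +kernel) (by decide +kernel) hr hd hR)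

theorem ac_fi22 {K : Type*} [Group K] [Finite K] (h : Spor.IsoFi22 K) : AC K :=
  ac_of' 64561751654400 [13] (NotCT.Orders.fi22 h) (by norm_num) (by decide)
    (fun r hr hd hR => (nr_fi22 h hr hd hR).conn) (by decide +kernel) (by decide +kernel)

/-! ### fi23 -/

theorem nr_fi23 {K : Type*} [Group K] [Finite K] (h : Spor.IsoFi23 K) {r : ℕ} (hr : r.Prime) (hd : r ∣ 4089470473293004800) (hR : r ∉ [17, 23]) :
    Nr K r :=
  cent_fi23 h hr (dvd_of (n := 64561751654400) [2, 3, 5, 7, 11, 13, 17, 23] [17, 23] (by norm_num) 18 (by decide +kernel) (by decide +kernel) hr hd hR)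

theorem ac_fi23 {K : Type*} [Group K] [Finite K] (h : Spor.IsoFi23 K) : AC K :=
  ac_of' 4089470473293004800 [17, 23] (NotCT.Orders.fi23 h) (by norm_num) (by decide)
    (fun r hr hd hR => (nr_fi23 h hr hd hR).conn) (by decide +kernel) (by decide +kernel)

/-! ### fi24 -/

theorem nr_fi24 {K : Type*} [Group K] [Finite K] (h : Spor.IsoFi24' K) {r : ℕ} (hr : r.Prime) (hd : r ∣ 1255205709190661721292800) (hR : r ∉ [17, 23, 29]) :
    Nr K r :=
  cent_fi24 h hr (dvd_of (n := 2 * 64561751654400) [2, 3, 5, 7, 11, 13, 17, 23, 29] [17, 23, 29] (by norm_num) 21 (by decide +kernel) (by decide +kernel) hr hd hR)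

theorem ac_fi24 {K : Type*} [Group K] [Finite K] (h : Spor.IsoFi24' K) : AC K :=
  ac_of' 1255205709190661721292800 [17, 23, 29] (NotCT.Orders.fi24 h) (by norm_num) (by decide)
    (fun r hr hd hR => (nr_fi24 h hr hd hR).conn) (by decide +kernel) (by decide +kernel)

/-! ### hn -/

theorem nr_hn {K : Type*} [Group K] [Finite K] (h : Spor.IsoHN K) {r : ℕ} (hr : r.Prime) (hd : r ∣ 273030912000000) (hR : r ∉ [19]) :
    Nr K r :=
  cent_hn h hr (dvd_of (n := 177408000) [2, 3, 5, 7, 11, 19] [19] (by norm_num) 14 (by decide +kernel) (by decide +kernel) hr hd hR)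

theorem ac_hn {K : Type*} [Group K] [Finite K] (h : Spor.IsoHN K) : AC K :=
  ac_of' 273030912000000 [19] (NotCT.Orders.hn h) (by norm_num) (by decide)
    (fun r hr hd hR => (nr_hn h hr hd hR).conn) (by decide +kernel) (by decide +kernel)

/-! ### th -/

theorem nr_th {K : Type*} [Group K] [Finite K] (h : Spor.IsoTh K) {r : ℕ} (hr : r.Prime) (hd : r ∣ 90745943887872000) (hR : r ∉ [13, 19, 31]) :
    Nr K r :=
  cent_th h hr (dvd_of (n := 92897280) [2, 3, 5, 7, 13, 19, 31] [13, 19, 31] (by norm_num) 15 (by decide +kernel) (by decide +kernel) hr hd hR)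

theorem ac_th {K : Type*} [Group K] [Finite K] (h : Spor.IsoTh K) : AC K :=
  ac_of' 90745943887872000 [13, 19, 31] (NotCT.Orders.th h) (by norm_num) (by decide)
    (fun r hr hd hR => (nr_th h hr hd hR).conn) (by decide +kernel) (by decide +kernel)

/-! ### b -/

theorem nr_b {K : Type*} [Group K] [Finite K] (h : Spor.IsoB K) {r : ℕ} (hr : r.Prime) (hd : r ∣ 4154781481226426191177580544000000) (hR : r ∉ [31, 47]) :
    Nr K r :=
  cent_b h hr (dvd_of (n := 306129918735099415756800 * 42305421312000) [2, 3, 5, 7, 11, 13, 17, 19, 23, 31, 47] [31, 47] (by norm_num) 41 (by decide +kernel) (by decide +kernel) hr hd hR)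

theorem ac_b {K : Type*} [Group K] [Finite K] (h : Spor.IsoB K) : AC K :=
  ac_of' 4154781481226426191177580544000000 [31, 47] (NotCT.Orders.b h) (by norm_num) (by decide)
    (fun r hr hd hR => (nr_b h hr hd hR).conn) (by decide +kernel) (by decide +kernel)

/-! ### m -/

theorem nr_m {K : Type*} [Group K] [Finite K] (h : Spor.IsoM K) {r : ℕ} (hr : r.Prime) (hd : r ∣ 808017424794512875886459904961710757005754368000000000) (hR : r ∉ [29, 41, 59, 71]) :
    Nr K r :=
  cent_m h hr (dvd_of (n := 2 * 4154781481226426191177580544000000) [2, 3, 5, 7, 11, 13, 17, 19, 23, 29, 31, 41, 47, 59, 71] [29, 41, 59, 71] (by norm_num) 46 (by decide +kernel) (by decide +kernel) hr hd hR)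

theorem ac_m {K : Type*} [Group K] [Finite K] (h : Spor.IsoM K) : AC K :=
  ac_of' 808017424794512875886459904961710757005754368000000000 [29, 41, 59, 71] (NotCT.Orders.m h) (by norm_num) (by decide)
    (fun r hr hd hR => (nr_m h hr hd hR).conn) (by decide +kernel) (by decide +kernel)

/-! ### the Tits group -/

theorem nr_tits {K : Type*} [Group K] [Finite K] (h : Lie.IsoTits K) {r : ℕ} (hr : r.Prime) (hd : r ∣ 17971200)
    (hR : r ∉ [13]) : Nr K r := by
  have h1 := mem_of_dvd [2, 3, 5, 13] (by norm_num) 11 (Nat.dvd_of_mod_eq_zero (by decide +kernel)) hr hd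
  simp only [List.mem_cons, List.not_mem_nil, or_false] at h1 hR
  rcases h1 with rfl | rfl | rfl | rfl
  · exact nr_two
  · exact tits_three h
  · exact tits_five h
  · exact absurd rfl hR

theorem ac_tits {K : Type*} [Group K] [Finite K] (h : Lie.IsoTits K) : AC K :=
  ac_of' 17971200 [13] (NotCT.Orders.tits h) (by norm_num) (by decide)
    (fun r hr hd hR => (nr_tits h hr hd hR).conn) (by decide +kernel) (by decide +kernel)

/-! ### all sporadic groups -/

theorem ac_sporadic {K : Type*} [Group K] [Finite K] (h : IsSporadicGroup K) : AC K := by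
  rcases h with h | h | h | h | h | h | h | h | h | h | h | h | h | h | h | h | h | h | h | h | h | h | h | h | h | h
  · exact ac_m11 h
  · exact ac_m12 h
  · exact ac_m22 h
  · exact ac_m23 h
  · exact ac_m24 h
  · exact ac_j1 h
  · exact ac_j2 h
  · exact ac_j3 h
  · exact ac_j4 h
  · exact ac_co1 h
  · exact ac_co2 h
  · exact ac_co3 h
  · exact ac_mcl h
  · exact ac_hs h
  · exact ac_suz h
  · exact ac_he h
  · exact ac_ru h
  · exact ac_on h
  · exact ac_ly h
  · exact ac_fi22 h
  · exact ac_fi23 h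
  · exact ac_fi24 h
  · exact ac_hn h
  · exact ac_th h
  · exact ac_b h
  · exact ac_m h

end Cfsg.Agent.H94.PG.Sp
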